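import Cfsg.Agent.G2C.GL2
import Cfsg.Agent.Chev.SpecG2

/-! Every non-trivial element of `G₂(q)` is conjugate into the big cell of a parabolic subgroup, with control of the
Levi part. -/

set_option autoImplicit false

namespace Cfsg.Agent.G2C

open Matrix Chev Cfsg.Lie _root_.Cfsg.Agent.Classical SpC
open scoped MatrixGroups

variable {F : Type*} [Field F] {G : Type*} [Group G]

local notation "M2" => Matrix (Fin 2) (Fin 2) F

/-- short simple root -/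
abbrev al : Rt chevG2 := sm i0G2
/-- long simple root -/
abbrev be : Rt chevG2 := sm i1G2
/-- the root `3α + β` -/
def bb : Rt chevG2 := ⟨10, by decide⟩
/-- the highest root -/
def th : Rt chevG2 := ⟨11, by decide⟩
/-- the coefficient of `β` -/
def ps : Fn chevG2 := LinearMap.proj i1G2

theorem ps_apply (v : Sm chevG2 → ℤ) : ps v = v i1G2 := rfl

theorem hab : A be al = -1 := by decide +kernel

/-- long positive roots -/
def RL : Set (Rt chevG2) := {r | Pos r ∧ 3 ∣ rtv r i0G2}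

instance instDecRLG2C : DecidablePred (· ∈ RL) := fun r => inferInstanceAs (Decidable (Pos r ∧ 3 ∣ rtv r i0G2))

theorem nilp_RL : Nilp (htF _) RL := ⟨fun r hr => by rw [htF_rtv]; exact hr.1.ht_pos, fun a ha b hb k hk =>
  ⟨hk.pos ha.1 hb.1, by
    obtain ⟨i, j, -, -, e⟩ := hk
    rw [e]; exact dvd_add (ha.2.mul_left i) (hb.2.mul_left j)⟩⟩

theorem RL_ps : ∀ r ∈ RL, 0 < rtv r i1G2 := by decide +kernel

theorem refl_eq {r s k : Rt chevG2} (h : rtv k = rtv s - A r s • rtv r) : refl r s = k :=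
  rtv_injective ((rtv_refl r s).trans h.symm)

theorem refl_RL {i : Rt chevG2} (hi : i = be ∨ i = bb) {r : Rt chevG2} (hr : r ∈ RL) (h : r ≠ i) : refl i r ∈ RL := by
  have : ∀ i, i = be ∨ i = bb → ∀ r ∈ RL, r ≠ i → ∃ k ∈ RL, rtv k = rtv r - A i r • rtv i := by decide +kernel
  obtain ⟨k, h1, h2⟩ := this i hi r hr h
  rwa [refl_eq h2]

variable {X : Sys chevG2 F G} (m : X.Mult)

variable (X) in
/-- unipotent radical -/
abbrev Up : Subgroup G := X.U {r | 0 < ps (rtv r)}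
variable (X) in
/-- opposite unipotent radical -/
abbrev Um : Subgroup G := X.U {r | 0 < (-ps) (rtv r)}

include m in
theorem xn (r : Rt chevG2) (t : Fˣ) :
    X.x r t * X.n r 1 = X.x (ng r) (t : F)⁻¹ * X.h r (-t : Fˣ) * X.x r (-(t : F)⁻¹) := by
  have : uSL (t : F) * (uSL 1 * lSL (-1⁻¹) * uSL 1) = lSL (t : F)⁻¹ * dSL (-t) * uSL (-(t : F)⁻¹) := by
    refine Subtype.ext ?_
    change (uSL _).1 * ((uSL 1).1 * (lSL _).1 * (uSL 1).1) =
      (lSL _).1 * !![((-t : Fˣ) : F), 0; 0, ((-t : Fˣ) : F)⁻¹] * (uSL _).1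
    simp
  have := congrArg (Ree.sysSL2 m r) this
  simpa only [map_mul, Ree.sysSL2_u, Ree.sysSL2_l, Ree.sysSL2_d, Sys.n] using this

variable (X) in
/-- control of the Levi part -/
def Q (n : G) : Prop := ∃ h0 ∈ X.H, ∀ t : Fˣ, ∃ u ∈ Up X, ∃ v ∈ Um X, ∃ u' ∈ X.U RL,
  u * n = v * (X.h be t * h0) * u'

include m in
theorem Q_base : Q X (X.n be 1) := ⟨1, one_mem _, fun t => ⟨_, X.x_mem_U (r := be) (by decide +kernel) (-t : Fˣ),
  _, X.x_mem_U (r := ng be) (by decide +kernel) _, _, X.x_mem_U (r := be) (by decide +kernel) _, by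
    rw [xn m, neg_neg, mul_one]⟩⟩

theorem norm_diff {D : ChevalleyDatum} [Good D] {X : Sys D F G} {φ : Fn D} {S : Set (Rt D)} (h : Nilp φ S)
    {i : Rt D} (hi : i ∈ S) (t : F) : X.x i t ∈ Subgroup.normalizer (X.U (S \ {i}) : Set G) :=
  X.U_le_normalizer (S := S \ {i}) (T := {i}) (by
    rintro _ rfl s hs
    refine ⟨h.ne_ng hi hs.1, fun k hk => ⟨h.closed _ hi _ hs.1 k hk, ?_⟩⟩
    rintro rfl
    have := hk.le φ (h.pos _ hi).le (h.pos _ hs.1).le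
    have := h.pos _ hs.1
    omega) (X.x_mem_single i t)

theorem mem_RL {i : Rt chevG2} (hi : i = be ∨ i = bb) : i ∈ RL := by revert i; decide +kernel

theorem step_aux {u n a b c k v h e f l : G} (e0 : u * n = v * h * (a * b)) (e1 : a * c * k = e * l * f) :
    u * (n * c * n⁻¹) * (n * k) = v * (h * e * h⁻¹) * (h * l) * (f * (k⁻¹ * (c⁻¹ * b * c) * k⁻¹⁻¹)) :=
  calc _ = u * n * c * k := by group
    _ = v * h * (a * c * k) * (k⁻¹ * (c⁻¹ * b * c) * k⁻¹⁻¹) := by rw [e0]; group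
    _ = _ := by rw [e1]; group

include m in
theorem Q_step {n : G} {w : WG chevG2} (hn : X.Mon n w) (h : Q X n) {i : Rt chevG2} (hi : i = be ∨ i = bb)
    (hw : 0 < rtv (w • i) i1G2) : Q X (n * X.n i 1) := by
  obtain ⟨h0, hh, h⟩ := h
  have hR := mem_RL hi
  refine ⟨h0 * X.h i (-1 : Fˣ), mul_mem hh (X.h_mem_H _ (Units.ne_zero _)), fun t => ?_⟩
  obtain ⟨u, hu, v, hv, u', hu', e⟩ := h t
  obtain ⟨a, ha, b, hb, rfl⟩ := Sys.exists_mul nilp_RL {i} hu'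
  obtain ⟨y, rfl⟩ := Sys.mem_U_singleton.1 (X.U_mono Set.inter_subset_right ha)
  have h1 := norm_diff (X := X) nilp_RL hR (1 - y)
  have h2 := (X.mon_n i (t := 1) one_ne_zero).inv.conj_mem_U (T := RL) (fun r hr => by
    rw [show (rW i)⁻¹ = rW i from inv_eq_of_mul_eq_one_right (rW_mul_self i), rW_smul]
    exact refl_RL hi hr.1 hr.2) (Sys.conj_mem_of_norm' h1 hb)
  have h3 : X.h be t * h0 * X.x (ng i) ((1 : Fˣ) : F)⁻¹ * (X.h be t * h0)⁻¹ ∈ Um X :=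
    Sys.conj_mem_of_norm (X.H_le_normalizer_U _ (mul_mem (X.h_mem_H _ t.ne_zero) hh))
      (X.x_mem_U (by simpa [ps_apply] using RL_ps i hR) _)
  refine ⟨u * (n * X.x i (1 - y) * n⁻¹), mul_mem hu (hn.conj_mem_U (S := {i}) (by rintro _ rfl; exact hw)
    (X.x_mem_single i _)), _, mul_mem hv h3, _, mul_mem (X.x_mem_U hR (-((1 : Fˣ) : F)⁻¹)) h2, ?_⟩
  have e1 := xn m i 1
  have e2 : X.x i ((1 : Fˣ) : F) = X.x i y * X.x i (1 - y) := by rw [← X.add]; simp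
  rw [e2] at e1
  rw [step_aux e e1, mul_assoc (X.h be t) h0 (X.h i _)]

include m in
theorem exists_rep (γ : Rt chevG2) (h1 : ln γ = ln th) (h2 : γ ≠ th) : ∃ v ∈ WJ {i0G2}, ∃ n ∈ X.N, ∃ w, X.Mon n w ∧
    Q X n ∧ Pos (w⁻¹ • al) ∧ (v * w) • th = γ := by
  have m1 := X.mon_n be (t := 1) one_ne_zero
  have m2 := X.mon_n bb (t := 1) one_ne_zero
  have n1 := X.n_mem_N be (t := 1) one_ne_zero
  have n2 := X.n_mem_N bb (t := 1) one_ne_zero
  have r1 : refl be th = bb := refl_eq (by decide +kernel)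
  have r2 : refl be bb = th := refl_eq (by decide +kernel)
  have r3 : refl bb th = be := refl_eq (by decide +kernel)
  have r4 : refl bb be = th := refl_eq (by decide +kernel)
  have r5 : refl al bb = be := refl_eq (by decide +kernel)
  have r6 : refl al be = bb := refl_eq (by decide +kernel)
  have r7 : refl be al = ⟨8, by decide⟩ := refl_eq (by decide +kernel)
  have r8 : refl bb ⟨8, by decide⟩ = ⟨8, by decide⟩ := refl_eq (by decide +kernel)
  have r9 : refl be ⟨8, by decide⟩ = al := refl_eq (by decide +kernel)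
  have iv : ∀ i : Rt chevG2, (rW i)⁻¹ = rW i := fun i => inv_eq_of_mul_eq_one_right (rW_mul_self i)
  have q1 : Q X _ := Q_base m
  have q2 := Q_step m m1 q1 (.inr rfl) (by rw [rW_smul, r2]; decide +kernel)
  have q3 := Q_step m (m1.mul m2) q2 (.inl rfl) (by rw [mul_smul, rW_smul, rW_smul, r4, r1]; decide +kernel)
  have p1 : Pos ((rW be)⁻¹ • al) := by rw [iv, rW_smul, r7]; decide +kernel
  have p2 : Pos ((rW be * rW bb)⁻¹ • al) := by
    rw [_root_.mul_inv_rev, iv, iv, mul_smul, rW_smul, rW_smul, r7, r8]; decide +kernel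
  have p3 : Pos ((rW be * rW bb * rW be)⁻¹ • al) := by
    rw [_root_.mul_inv_rev, _root_.mul_inv_rev, iv, iv, mul_smul, mul_smul, rW_smul, rW_smul, rW_smul, r7, r8, r9]
    decide +kernel
  have s1 : sr i0G2 ∈ WJ {i0G2} := sr_mem_WJ rfl
  have : ∀ γ : Rt chevG2, ln γ = ln th → γ ≠ th → γ = bb ∨ γ = be ∨ γ = ng be ∨ γ = ng bb ∨ γ = ng th := by
    decide +kernel
  rcases this γ h1 h2 with rfl | rfl | rfl | rfl | rfl
  · exact ⟨1, one_mem _, _, n1, _, m1, q1, p1, by rw [one_mul, rW_smul, r1]⟩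
  · exact ⟨_, s1, _, n1, _, m1, q1, p1, by rw [mul_smul, rW_smul, r1, sr_smul, r5]⟩
  · exact ⟨1, one_mem _, _, mul_mem n1 n2, _, m1.mul m2, q2, p2, by
      rw [one_mul, mul_smul, rW_smul, rW_smul, r3, refl_self]⟩
  · exact ⟨_, s1, _, mul_mem n1 n2, _, m1.mul m2, q2, p2, by
      rw [mul_smul, mul_smul, rW_smul, rW_smul, r3, refl_self, sr_smul, refl_ng, r6]⟩
  · exact ⟨1, one_mem _, _, mul_mem (mul_mem n1 n2) n1, _, (m1.mul m2).mul m1, q3, p3, by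
      rw [one_mul, mul_smul, mul_smul, rW_smul, rW_smul, rW_smul, r1, refl_self, refl_ng, r2]⟩

/-- The Levi subgroup of `G₂`. -/
noncomputable abbrev lev : (M2)ˣ →* G := gl2 m hab

theorem lev_Up (A : (M2)ˣ) : lev m A ∈ Subgroup.normalizer (Up X : Set G) := gl2_norm m hab _ (by decide +kernel) A

theorem lev_Um (A : (M2)ˣ) : lev m A ∈ Subgroup.normalizer (Um X : Set G) := gl2_norm m hab _ (by decide +kernel) A

theorem lev_d (x y : Fˣ) : lev m (dG x y) = m.tor fun i => if i = i0G2 then x else x * y := by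
  rw [gl2_d, m.tor_eq_prod]
  change _ = X.h al x * (X.h be (x * y : Fˣ) * 1)
  rw [mul_one]

theorem exists_dG {h : G} (hh : h ∈ X.H) : ∃ x y, h = lev m (dG x y) := by
  obtain ⟨c, rfl⟩ := m.exists_tor hh
  refine ⟨c i0G2, (c i0G2)⁻¹ * c i1G2, ?_⟩
  rw [lev_d]
  congr 1
  funext i
  have : ∀ i : Sm chevG2, i = i0G2 ∨ (i = i1G2 ∧ i ≠ i0G2) := by decide
  rcases this i with rfl | ⟨rfl, h⟩
  · simp
  · simp [h]

theorem exists_lev {p : G} (hp : p ∈ X.P {i0G2}) : ∃ A, ∃ u ∈ Up X, p = lev m A * u := by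
  have e : {r | Pos r ∧ ¬ InJ {i0G2} r} = {r | 0 < ps (rtv r)} := Set.ext fun r => by
    rw [Set.mem_ofPred_eq, pos_not_inJ_singleton]; revert r; decide +kernel
  have hL : X.H ⊔ X.U {r | InJ {i0G2} r} ≤ (lev m).range := sup_le
    (fun h hh => by obtain ⟨x, y, rfl⟩ := exists_dG m hh; exact ⟨_, rfl⟩)
    (Sys.U_le.2 fun r hr t => by
      rcases inJ_singleton.1 hr with rfl | rfl
      · exact ⟨_, gl2_u m hab t⟩
      · exact ⟨_, gl2_l m hab t⟩)
  rw [← X.rad_sup_levi, e] at hp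
  obtain ⟨u, hu, _, ⟨A, rfl⟩, rfl⟩ := (Sys.mem_sup_of_norm (H := (lev m).range)
    (by rintro _ ⟨A, rfl⟩; exact lev_Up m A)).1 (sup_le_sup_left hL _ hp)
  exact ⟨A, _, Sys.conj_mem_of_norm' (lev_Up m A) hu, by group⟩

theorem big_cell (c : X.Cover) (hX : X.U Set.univ = ⊤) [IsSimpleGroup G] {g : G} (hg : g ≠ 1) :
    ∃ B : (M2)ˣ, (B.1 0 0 ≠ 0 ∨ B.1 1 1 ≠ 0) ∧ ∀ t : Fˣ, ∃ v ∈ Um X, ∃ u ∈ Up X,
      IsConj g (v * lev m (dG 1 t * B) * u) := by
  obtain ⟨z, hz⟩ : ∃ z : G, z * g * z⁻¹ ∉ X.P {i0G2} := by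
    by_contra! H
    rcases (Subgroup.normalCore_normal (X.P {i0G2})).eq_bot_or_eq_top with h | h
    · exact hg (Subgroup.mem_bot.1 (h ▸ (H : g ∈ (X.P {i0G2}).normalCore)))
    have h1 : X.n be 1 ∈ X.P {i0G2} := Subgroup.normalCore_le _ (h ▸ Subgroup.mem_top _)
    rw [c.mem_P_iff ((X.mon_sm i1G2 one_ne_zero).cell (X.n_mem_N _ one_ne_zero))] at h1
    have := rtv_smul_of_mem h1 be (i := i1G2) (by decide)
    rw [sr_smul_self] at this
    revert this; decide +kernel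
  obtain ⟨w, hw⟩ := Sys.exists_cell (X := X) (y := z * g * z⁻¹) (hX ▸ Subgroup.mem_top _)
  have fx : ∀ w : WG chevG2, w • th = th → w ∈ WJ {i0G2} := fun w h =>
    mem_WJ_of_pair (a := th) (b := th) 1 0 ⟨h, h⟩ (by simp only [Set.mem_singleton_iff]; decide +kernel)
  obtain ⟨v, hv, n, hn, w', hm, hQ, hp, e⟩ := exists_rep m (w • th) (ln_smul _ _)
    (fun h => hz ((c.mem_P_iff hw).2 (fx w h)))
  obtain ⟨b, hb, n', hn', hm', b', hb', e'⟩ := hw
  obtain ⟨k, hk, hkv⟩ := X.exists_mem_N v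
  have k1 : k ∈ X.P {i0G2} := (c.mem_P_iff (hkv.cell hk)).2 hv
  have k2 : (k * n)⁻¹ * n' ∈ X.P {i0G2} :=
    (c.mem_P_iff (((hkv.mul hm).inv.mul hm').cell (mul_mem (inv_mem (mul_mem hk hn)) hn'))).2
      (fx _ (by rw [mul_smul, ← e, inv_smul_smul]))
  obtain ⟨A, u, hu, e2⟩ := exists_lev m (mul_mem (mul_mem k2 (X.B_le_P _ hb')) (mul_mem (X.B_le_P _ hb) k1))
  have c1 : IsConj g (n * (lev m A * u)) := isConj_iff.2 ⟨(b * k)⁻¹ * z, by
    rw [← e2, show (b * k)⁻¹ * z * g * ((b * k)⁻¹ * z)⁻¹ = (b * k)⁻¹ * (z * g * z⁻¹) * (b * k) by group, e']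
    group⟩
  obtain ⟨A, hA, u, hu, c1⟩ : ∃ A : (M2)ˣ, (A.1 0 0 ≠ 0 ∨ A.1 1 1 ≠ 0) ∧ ∃ u ∈ Up X, IsConj g (n * (lev m A * u)) := by
    by_cases hA : A.1 0 0 ≠ 0 ∨ A.1 1 1 ≠ 0
    · exact ⟨A, hA, u, hu, c1⟩
    push Not at hA
    obtain ⟨s, u1, hu1, e3⟩ : ∃ s, ∃ u1 ∈ Up X,
        n⁻¹ * X.x al 1 * n⁻¹⁻¹ = lev m (SpecialLinearGroup.toGL (uSL s)) * u1 := by
      obtain ⟨c, -, hc⟩ := hm.inv
      rw [hc]
      by_cases h : w'⁻¹ • al = al
      · exact ⟨c al * 1, 1, one_mem _, by rw [h, gl2_u, mul_one (X.x _ _)]⟩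
      · refine ⟨0, _, X.x_mem_U (r := w'⁻¹ • al) ?_ (c al * 1), by rw [gl2_u, X.x_zero, one_mul]⟩
        revert hp h; generalize w'⁻¹ • al = r; revert r; decide +kernel
    let T : (M2)ˣ := SpecialLinearGroup.toGL (uSL (-1 : F))
    have hT : lev m T = (X.x al 1)⁻¹ := by rw [gl2_u, X.x_neg]
    refine ⟨SpecialLinearGroup.toGL (uSL s) * A * T, .inr ?_, (lev m T)⁻¹ * ((lev m A)⁻¹ * u1 * lev m A * u) * lev m T,
      Sys.conj_mem_of_norm' (lev_Up m T) (mul_mem (Sys.conj_mem_of_norm' (lev_Up m A) hu1) hu),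
      c1.trans (isConj_iff.2 ⟨X.x al 1, ?_⟩)⟩
    · have h0 : A.1.det ≠ 0 := (dt A).ne_zero
      rw [det_fin_two, hA.1] at h0
      change ((uSL s).1 * A.1 * (uSL (-1 : F)).1 : M2) 1 1 ≠ 0
      simp only [Matrix.mul_apply, Fin.sum_univ_two]
      simp [hA.2]
      exact fun h => h0 (by rw [h]; simp)
    · rw [map_mul, map_mul, hT, show X.x al 1 * (n * (lev m A * u)) * (X.x al 1)⁻¹ =
        n * (n⁻¹ * X.x al 1 * n⁻¹⁻¹) * (lev m A * u) * (X.x al 1)⁻¹ by group, e3]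
      group
  obtain ⟨h0, hh, hQ⟩ := hQ
  obtain ⟨x, y, rfl⟩ := exists_dG m hh
  refine ⟨dG x y * A, by simpa [Matrix.mul_apply, Fin.sum_univ_two] using hA, fun t => ?_⟩
  obtain ⟨u1, hu1, v, hv, u2, hu2, e3⟩ := hQ t
  refine ⟨v, hv, (lev m A)⁻¹ * u2 * lev m A * u * u1⁻¹, mul_mem (mul_mem (Sys.conj_mem_of_norm' (lev_Up m A)
    (X.U_mono RL_ps hu2)) hu) (inv_mem hu1), c1.trans (isConj_iff.2 ⟨u1, ?_⟩)⟩
  rw [← mul_assoc, e3, map_mul, map_mul, gl2_d1]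
  group

end Cfsg.Agent.G2C
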