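import Cfsg.Agent.SpC.Four
import Cfsg.Agent.Ree.SL2Pres
import Cfsg.Agent.Pres.SL3
import Cfsg.Agent.Chev.Semi

/-! A Levi subgroup `GL₂` of a Steinberg system, and products of two conjugates through it. -/

set_option autoImplicit false

namespace Cfsg.Agent.G2C

open Matrix Chev Cfsg.Lie _root_.Cfsg.Agent.Classical SpC
open scoped MatrixGroups

variable {F : Type*} [Field F] {G : Type*} [Group G]

local notation "M2" => Matrix (Fin 2) (Fin 2) F

theorem isConj_mul {S : Subgroup G} [Finite S] {y : G} (hy : y ∈ Subgroup.normalizer (S : Set G))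
    (hf : ∀ u ∈ S, y * u * y⁻¹ = u → u = 1) {u : G} (hu : u ∈ S) : IsConj y (y * u) := by
  let f : S → S := fun v => ⟨y⁻¹ * v * y * (v : G)⁻¹, S.mul_mem (Sys.conj_mem_of_norm' hy v.2) (S.inv_mem v.2)⟩
  have hi : Function.Injective f := fun v w e => by
    have e : y⁻¹ * v * y * (v : G)⁻¹ = y⁻¹ * w * y * (w : G)⁻¹ := congrArg Subtype.val e
    have := hf ((w : G)⁻¹ * v) (S.mul_mem (S.inv_mem w.2) v.2) (by
      calc y * ((w : G)⁻¹ * v) * y⁻¹ = (w : G)⁻¹ * y * (y⁻¹ * w * y * (w : G)⁻¹) * v * y⁻¹ := by group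
        _ = (w : G)⁻¹ * v := by rw [← e]; group)
    exact Subtype.ext (inv_mul_eq_one.1 this).symm
  obtain ⟨v, hv⟩ := Finite.injective_iff_surjective.1 hi ⟨u, hu⟩
  have hv : y⁻¹ * v * y * (v : G)⁻¹ = u := congrArg Subtype.val hv
  exact isConj_iff.2 ⟨v, by rw [← hv]; group⟩

theorem isConj_mul' {S : Subgroup G} [Finite S] {y : G} (hy : y ∈ Subgroup.normalizer (S : Set G))
    (hf : ∀ u ∈ S, y * u * y⁻¹ = u → u = 1) {u : G} (hu : u ∈ S) : IsConj y (u * y) := by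
  have := isConj_mul hy hf (Sys.conj_mem_of_norm' hy hu)
  rwa [show y * (y⁻¹ * u * y) = u * y by group] at this

theorem isConj_un {P Q : (M2)ˣ} (h : P.1.trace ^ 2 ≠ 4 * P.1.det) (h1 : Q.1.trace = P.1.trace)
    (h2 : Q.1.det = P.1.det) : IsConj P Q := by
  have a := sim2 (nonscalar h)
  have b := sim2 (Y := Q.1) (nonscalar (by rwa [h1, h2]))
  rw [h1, h2] at b
  obtain ⟨c, hc⟩ := a.symm.trans b
  refine isConj_iff.2 ⟨c, ?_⟩
  rw [mul_inv_eq_iff_eq_mul]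
  exact Units.ext hc

theorem goodG [Fintype F] (φ : (M2)ˣ →* G) {Sp Sm : Subgroup G} [Finite Sp] [Finite Sm]
    (hp : ∀ Y, φ Y ∈ Subgroup.normalizer (Sp : Set G)) (hm : ∀ Y, φ Y ∈ Subgroup.normalizer (Sm : Set G))
    {s d : F} (hd0 : d ≠ 0) (hs : s ≠ 0) (h4 : s ^ 2 ≠ 4 * d)
    (fp : ∀ Y : (M2)ˣ, Y.1.trace = s → Y.1.det = d → ∀ u ∈ Sp, φ Y * u * (φ Y)⁻¹ = u → u = 1)
    (fm : ∀ Y : (M2)ˣ, Y.1.trace = s → Y.1.det = d → ∀ u ∈ Sm, φ Y * u * (φ Y)⁻¹ = u → u = 1)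
    (hi : ∀ Y : (M2)ˣ, Y.1.trace = s → Y.1.det = d → IsConj (φ Y) (φ Y⁻¹))
    (X : (M2)ˣ) (hX : X.1 = cp s d) {A : M2} (hA : A.det = 1)
    (h : A = 1 ∨ (A.trace ≠ 2 ∧ ¬ ∃ a : F, A = a • 1)) {B : (M2)ˣ} (hg : B.1 = A ∨ B.1 = d • A)
    {u v : G} (hu : u ∈ Sp) (hv : v ∈ Sm) :
    ∃ y z, IsConj (φ X) y ∧ IsConj (φ X) z ∧ v * φ B * u = y * z := by
  obtain ⟨Y, h1, h2, h3⟩ := existsY d hs hA h
  have hX1 : X.1.trace = s := by rw [hX, cp_trace]
  have hX2 : X.1.det = d := by rw [hX, cp_det]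
  have key : ∀ Q : (M2)ˣ, Q.1.trace = s → Q.1.det = d → IsConj (φ X) (φ Q) := fun Q a b =>
    φ.map_isConj (isConj_un (by rwa [hX1, hX2]) (by rw [a, hX1]) (by rw [b, hX2]))
  have hY : Y.det ≠ 0 := by rwa [h2]
  have hAY : (A * Y).det = d := by rw [det_mul, hA, one_mul, h2]
  let P := un (A * Y) (by rwa [hAY])
  have k1 := (key P h3 hAY).trans (isConj_mul' (hm P) (fm P h3 hAY) hv)
  rcases hg with hg | hg
  · let Q := un Y hY
    have e : B = P * Q⁻¹ := by rw [eq_mul_inv_iff_mul_eq]; exact Units.ext (by simp [P, Q, hg])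
    refine ⟨_, _, k1, ((key Q h1 h2).trans (hi Q h1 h2)).trans (isConj_mul (hp _) (fun u hu e => fp Q h1 h2 u hu ?_) hu),
      by rw [e, map_mul]; group⟩
    rw [map_inv] at e
    conv_lhs => rw [← e]
    group
  · have a1 : Y.adjugate.trace = s := by rw [← h1, adjugate_fin_two]; simp [trace_fin_two, add_comm]
    have a2 : Y.adjugate.det = d := by rw [det_adjugate, h2]; simp
    let Q := un Y.adjugate (by rwa [a2])
    have e : B = P * Q := Units.ext (by simp [P, Q, hg, mul_assoc, mul_adjugate, h2])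
    exact ⟨_, _, k1, (key Q a1 a2).trans (isConj_mul (hp _) (fp Q a1 a2) hu), by rw [e, map_mul]; group⟩

/-- diagonal matrices -/
def dG (a b : Fˣ) : (M2)ˣ :=
  ⟨!![(a : F), 0; 0, b], !![(a : F)⁻¹, 0; 0, (b : F)⁻¹], by simp [one_fin_two], by simp [one_fin_two]⟩

@[simp] theorem dG_val (a b : Fˣ) : (dG a b).1 = !![(a : F), 0; 0, b] := id rfl

theorem dG_mul (a b a' b' : Fˣ) : dG (a * a') (b * b') = dG a b * dG a' b' := Units.ext (by simp)

/-- determinant as a unit -/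
abbrev dt (A : (M2)ˣ) : Fˣ := GeneralLinearGroup.det A

/-- the `SL₂` part -/
def sA (A : (M2)ˣ) : SL(2, F) :=
  ⟨!![A.1 0 0, A.1 0 1 * (dt A : F)⁻¹; A.1 1 0, A.1 1 1 * (dt A : F)⁻¹], by
    have : (dt A : F) = A.1 0 0 * A.1 1 1 - A.1 0 1 * A.1 1 0 := by rw [← det_fin_two]; rfl
    have h0 := (dt A).ne_zero
    rw [det_fin_two_of]; field_simp; rw [this]⟩

theorem sA_val (A : (M2)ˣ) : (sA A).1 =
    !![A.1 0 0, A.1 0 1 * (dt A : F)⁻¹; A.1 1 0, A.1 1 1 * (dt A : F)⁻¹] := rfl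

theorem sA_mul (A B : (M2)ˣ) : sA (A * B) = sA A * Pres.dgSL (dt A)⁻¹ (sA B) := by
  have h0 := (dt A).ne_zero
  have h1 := (dt B).ne_zero
  refine Subtype.ext ?_
  change (sA (A * B)).1 = (sA A).1 * (Pres.dgF (dt A)⁻¹ (sA B)).1
  rw [Pres.dgF_val, sA_val, sA_val, sA_val, show (dt (A * B) : F) = dt A * dt B by simp]
  generalize (dt A) = x at *
  generalize (dt B) = y at *
  ext i j
  fin_cases i <;> fin_cases j <;> simp [Matrix.mul_apply, Fin.sum_univ_two] <;> field_simp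

theorem toGL_sA (A : (M2)ˣ) : SpecialLinearGroup.toGL (sA A) * dG 1 (dt A) = A := by
  refine Units.ext ?_
  change (sA A).1 * (dG 1 (dt A)).1 = A.1
  rw [sA_val]
  generalize (dt A) = x at *
  ext i j
  fin_cases i <;> fin_cases j <;> simp [Matrix.mul_apply, Fin.sum_univ_two]

theorem GL2_hom_ext {f g : (M2)ˣ →* G} (h1 : ∀ t, f (SpecialLinearGroup.toGL (uSL t)) = g (SpecialLinearGroup.toGL (uSL t)))
    (h2 : ∀ t, f (SpecialLinearGroup.toGL (lSL t)) = g (SpecialLinearGroup.toGL (lSL t)))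
    (h3 : ∀ b, f (dG 1 b) = g (dG 1 b)) : f = g := by
  have := Ree.SL2_hom_ext (f := f.comp SpecialLinearGroup.toGL) (g := g.comp SpecialLinearGroup.toGL) h1 h2
  ext1 A
  rw [← toGL_sA A, map_mul, map_mul, h3]
  exact congrArg (· * _) (DFunLike.congr_fun this _)

variable {D : ChevalleyDatum} [Good D] [Conn D] {X : Sys D F G} (m : X.Mult) {a b : Rt D} (hab : A b a = -1)
include hab

theorem h_conj_sl (δ : Fˣ) (g : SL(2, F)) :
    X.h b δ * Ree.sysSL2 m a g * (X.h b δ)⁻¹ = Ree.sysSL2 m a (Pres.dgSL δ⁻¹ g) :=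
  DFunLike.congr_fun (Ree.SL2_hom_ext (f := (MulAut.conj (X.h b δ)).toMonoidHom.comp (Ree.sysSL2 m a))
    (g := (Ree.sysSL2 m a).comp (Pres.dgSL δ⁻¹))
    (fun t => by simp [Ree.sysSL2_u, Pres.dgSL_u, X.h_conj b a δ.ne_zero, hab])
    (fun t => by simp [Ree.sysSL2_l, Pres.dgSL_l, X.h_conj b (ng a) δ.ne_zero, hab])) g

/-- The Levi subgroup. -/
noncomputable def gl2 : (M2)ˣ →* G := MonoidHom.mk' (fun A => Ree.sysSL2 m a (sA A) * X.h b (dt A)) fun A B => by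
  rw [sA_mul, map_mul, ← h_conj_sl m hab, show (dt (A * B) : F) = dt A * dt B by simp,
    ← m b _ _ (dt A).ne_zero (dt B).ne_zero]
  group

theorem gl2_apply (A : (M2)ˣ) : gl2 m hab A = Ree.sysSL2 m a (sA A) * X.h b (dt A) := rfl

theorem gl2_sl (g : SL(2, F)) : gl2 m hab (SpecialLinearGroup.toGL g) = Ree.sysSL2 m a g := by
  have e : dt (SpecialLinearGroup.toGL g) = 1 := by simp [dt]
  rw [gl2_apply, e, Units.val_one, X.h_one, mul_one]
  congr 1
  ext i j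
  fin_cases i <;> fin_cases j <;> simp [sA, e]

theorem gl2_u (t : F) : gl2 m hab (SpecialLinearGroup.toGL (uSL t)) = X.x a t := by rw [gl2_sl, Ree.sysSL2_u]

theorem gl2_l (t : F) : gl2 m hab (SpecialLinearGroup.toGL (lSL t)) = X.x (ng a) t := by rw [gl2_sl, Ree.sysSL2_l]

theorem gl2_d (x y : Fˣ) : gl2 m hab (dG x y) = X.h a x * X.h b (x * y : Fˣ) := by
  have e : dt (dG x y) = x * y := Units.ext (by simp [dt, det_fin_two])
  rw [gl2_apply, e, ← Ree.sysSL2_d m a x]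
  refine congrArg (· * _) (congrArg _ (Subtype.ext ?_))
  rw [sA_val, e]
  ext i j
  fin_cases i <;> fin_cases j <;> simp [dSL]

theorem gl2_d1 (y : Fˣ) : gl2 m hab (dG 1 y) = X.h b y := by rw [gl2_d, Units.val_one, X.h_one, one_mul, one_mul]

theorem gl2_mem {K : Subgroup G} (h1 : ∀ t, X.x a t ∈ K) (h2 : ∀ t, X.x (ng a) t ∈ K) (h3 : X.H ≤ K) (A : (M2)ˣ) :
    gl2 m hab A ∈ K := K.mul_mem (Ree.sysSL2_mem m a h1 h2 _) (h3 (X.h_mem_H _ (Units.ne_zero _)))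

theorem gl2_norm (φ : Fn D) (h : φ (rtv a) = 0) (A : (M2)ˣ) :
    gl2 m hab A ∈ Subgroup.normalizer (X.U {r | 0 < φ (rtv r)} : Set G) :=
  gl2_mem m hab (fun t => X.U_nonneg_le_normalizer φ (X.x_mem_U (by simp [h]) t))
    (fun t => X.U_nonneg_le_normalizer φ (X.x_mem_U (by simp [h]) t)) (X.H_le_normalizer_U _) A

theorem gl2_stMap {K : Type*} [Field K] (ι : F →+* K) (A : (M2)ˣ) :
    stMap D ι (gl2 (stS_mult D F) hab A) = gl2 (stS_mult D K) hab (GeneralLinearGroup.map ι A) := by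
  refine DFunLike.congr_fun (GL2_hom_ext (f := (stMap D ι).comp (gl2 (stS_mult D F) hab))
    (g := (gl2 (stS_mult D K) hab).comp (GeneralLinearGroup.map ι)) (fun t => ?_) (fun t => ?_) fun y => ?_) A
  · have : GeneralLinearGroup.map ι (SpecialLinearGroup.toGL (uSL t)) = SpecialLinearGroup.toGL (uSL (ι t)) := by
      ext i j; fin_cases i <;> fin_cases j <;> simp
    simp only [MonoidHom.comp_apply, this, gl2_u, stMap_x]
  · have : GeneralLinearGroup.map ι (SpecialLinearGroup.toGL (lSL t)) = SpecialLinearGroup.toGL (lSL (ι t)) := by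
      ext i j; fin_cases i <;> fin_cases j <;> simp
    simp only [MonoidHom.comp_apply, this, gl2_l, stMap_x]
  · have : GeneralLinearGroup.map ι (dG 1 y) = dG 1 (Units.map ι y) := by
      ext i j; fin_cases i <;> fin_cases j <;> simp
    simp only [MonoidHom.comp_apply, this, gl2_d1, Sys.h, map_mul, stMap_n, map_neg, map_one, Units.coe_map,
      MonoidHom.coe_coe]

end Cfsg.Agent.G2C
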